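import Mathlib
import Cfsg.Agent.S2530
import Cfsg.Agent.Lib.Helper56.SymTwo.Defs

/-!
# S3350 team project "SYM2", package [GLUE]: Coxeter gluing in standard coordinates (helper89)
-/

set_option autoImplicit false

namespace Cfsg.Agent.Lib.Helper89.SymTwo

open Equiv

universe u

/-- the adjacent transposition `(j, j+1)` of `Fin (k+1)` -/
def sw (k j : ℕ) (hj : j < k) : Perm (Fin (k + 1)) := swap ⟨j, by omega⟩ ⟨j + 1, by omega⟩

theorem sw_eq (k : ℕ) (a b : Fin (k + 1)) (j : ℕ) (hj : j < k) (ha : a.val = j)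
    (hb : b.val = j + 1) : swap a b = sw k j hj := by
  obtain ⟨a, ha'⟩ := a
  obtain ⟨b, hb'⟩ := b
  dsimp only at ha hb
  subst ha
  subst hb
  rfl

theorem sw_mul_self (k j : ℕ) (hj : j < k) : sw k j hj * sw k j hj = 1 := swap_mul_self _ _

theorem sw_rel (k : ℕ) (a b : ℕ) (ha : a < k) (hb : b < k) :
    (sw k a ha * sw k b hb) ^ (if a = b then 1 else if b + 1 = a ∨ a + 1 = b then 3 else 2) = 1 := by
  have h := Cfsg.Agent.S2530.liftable k ⟨a, ha⟩ ⟨b, hb⟩
  have hM : (CoxeterMatrix.A k) ⟨a, ha⟩ ⟨b, hb⟩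
      = (if a = b then 1 else if b + 1 = a ∨ a + 1 = b then 3 else 2) := by
    simp [CoxeterMatrix.A, Fin.ext_iff]
  rw [hM] at h
  exact h

theorem closure_sw (k : ℕ) :
    Subgroup.closure (Set.range fun i : Fin k => sw k i.val i.isLt) = ⊤ := by
  have h1 := Equiv.Perm.mclosure_swap_castSucc_succ k
  have h2 : (Set.range fun i : Fin k => sw k i.val i.isLt)
      = Set.range fun i : Fin k => (swap i.castSucc i.succ : Perm (Fin (k + 1))) := by
    congr 1
  rw [h2, eq_top_iff]
  intro g _
  have h3 : g ∈ Submonoid.closure (Set.range fun i : Fin k =>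
      (swap i.castSucc i.succ : Perm (Fin (k + 1)))) := by
    rw [h1]
    exact Submonoid.mem_top g
  exact Subgroup.le_closure_toSubmonoid _ h3

theorem sw_congr (k : ℕ) {j j' : ℕ} (h : j = j') (hj : j < k) (hj' : j' < k) :
    sw k j hj = sw k j' hj' := by
  subst h
  rfl

theorem pkgGlue : Cfsg.Agent.Lib.Helper56.SymTwo.PkgGlue.{u} := by
  intro m hm G _ κ ι hι H1 H2 H3 H4
  classical
  obtain ⟨k, rfl⟩ : ∃ k, m = k + 1 := ⟨m - 1, by omega⟩
  have hk : 8 ≤ k := by omega
  -- the hypotheses in `sw` form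
  have H1' : ∀ j (hj : j + 2 < k), ι (sw k (j + 2) hj) = κ (sw k j (by omega)) := by
    intro j hj
    have h := H1 j (j + 1) (by omega) (by omega)
    rw [sw_eq k ⟨j + 2, by omega⟩ ⟨j + 1 + 2, by omega⟩ (j + 2) hj rfl
      (by show j + 1 + 2 = j + 2 + 1; omega)] at h
    exact h
  have H2' : ∀ σ, ι (sw k 0 (by omega)) * κ σ = κ σ * ι (sw k 0 (by omega)) := by
    intro σ
    exact H2 σ
  have H3' : ∀ τ, κ (sw k (k - 1) (by omega)) * ι τ = ι τ * κ (sw k (k - 1) (by omega)) := by
    intro τ
    have h := H3 τ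
    rw [sw_eq k ⟨k + 1 - 2, by omega⟩ ⟨k + 1 - 1, by omega⟩ (k - 1) (by omega)
      (by show k + 1 - 2 = k - 1; omega) (by show k + 1 - 1 = k - 1 + 1; omega)] at h
    exact h
  have H4' : ι (sw k 1 (by omega)) * κ (sw k (k - 2) (by omega))
      = κ (sw k (k - 2) (by omega)) * ι (sw k 1 (by omega)) := by
    have h := H4
    rw [sw_eq k ⟨k + 1 - 3, by omega⟩ ⟨k + 1 - 2, by omega⟩ (k - 2) (by omega)
      (by show k + 1 - 3 = k - 2; omega) (by show k + 1 - 2 = k - 2 + 1; omega)] at h
    exact h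
  -- the generators
  let t : Fin (k + 2) → G := fun i =>
    if h : i.val < k then ι (sw k i.val h)
    else κ (sw k (i.val - 2) (by have := i.isLt; omega))
  have t_low : ∀ (i : Fin (k + 2)) (h : i.val < k), t i = ι (sw k i.val h) :=
    fun i h => dif_pos h
  have t_iota : ∀ (j : ℕ) (hj : j < k), t ⟨j, by omega⟩ = ι (sw k j hj) :=
    fun j hj => dif_pos hj
  have t_kappa : ∀ (j : ℕ) (hj : j < k), t ⟨j + 2, by omega⟩ = κ (sw k j hj) := by
    intro j hj
    by_cases h : j + 2 < k
    · have e : t ⟨j + 2, by omega⟩ = ι (sw k (j + 2) h) := dif_pos h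
      rw [e]
      exact H1' j h
    · have e : t ⟨j + 2, by omega⟩ = κ (sw k (j + 2 - 2) (by omega)) := dif_neg h
      rw [e, sw_congr k (show j + 2 - 2 = j by omega) _ hj]
  have t_high : ∀ (i : Fin (k + 2)) (h : 2 ≤ i.val),
      t i = κ (sw k (i.val - 2) (by have := i.isLt; omega)) := by
    intro i h
    have h1 := t_kappa (i.val - 2) (by have := i.isLt; omega)
    have e : (⟨i.val - 2 + 2, by have := i.isLt; omega⟩ : Fin (k + 2)) = i :=
      Fin.ext (by show i.val - 2 + 2 = i.val; omega)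
    rw [e] at h1
    exact h1
  have t_sq : ∀ i, t i * t i = 1 := by
    intro i
    by_cases h : i.val < k
    · rw [t_low i h, ← map_mul, sw_mul_self, map_one]
    · rw [t_high i (by omega), ← map_mul, sw_mul_self, map_one]
  have key : ∀ (a b : Fin (k + 2)), a.val < 2 → k ≤ b.val → t a * t b = t b * t a := by
    intro a b ha hb
    have hb2 := b.isLt
    rw [t_low a (by omega), t_high b (by omega)]
    rcases Nat.lt_or_ge a.val 1 with h0 | h0
    · rw [sw_congr k (show a.val = 0 by omega) _ (by omega)]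
      exact H2' _
    · rw [sw_congr k (show a.val = 1 by omega) _ (by omega)]
      rcases Nat.lt_or_ge b.val (k + 1) with hbk | hbk
      · rw [sw_congr k (show b.val - 2 = k - 2 by omega) _ (by omega)]
        exact H4'
      · rw [sw_congr k (show b.val - 2 = k - 1 by omega) _ (by omega)]
        exact (H3' _).symm
  have hlift : (CoxeterMatrix.A (k + 2)).IsLiftable t := by
    intro i i'
    have hi := i.isLt
    have hi' := i'.isLt
    have hM : (CoxeterMatrix.A (k + 2)) i i' = (if i.val = i'.val then 1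
        else if i'.val + 1 = i.val ∨ i.val + 1 = i'.val then 3 else 2) := by
      simp [CoxeterMatrix.A, Fin.ext_iff]
    rw [hM]
    by_cases h1 : i.val < k ∧ i'.val < k
    · rw [t_low i h1.1, t_low i' h1.2, ← map_mul, ← map_pow, sw_rel k i.val i'.val h1.1 h1.2,
        map_one]
    · by_cases h2 : 2 ≤ i.val ∧ 2 ≤ i'.val
      · rw [t_high i h2.1, t_high i' h2.2, ← map_mul, ← map_pow]
        have hexp : (if i.val = i'.val then 1
            else if i'.val + 1 = i.val ∨ i.val + 1 = i'.val then 3 else 2)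
            = (if i.val - 2 = i'.val - 2 then 1
              else if i'.val - 2 + 1 = i.val - 2 ∨ i.val - 2 + 1 = i'.val - 2 then 3 else 2) := by
          split_ifs <;> first | rfl | omega
        rw [hexp, sw_rel k (i.val - 2) (i'.val - 2), map_one]
      · have hcomm : t i * t i' = t i' * t i := by
          rcases (show (i.val < 2 ∧ k ≤ i'.val) ∨ (i'.val < 2 ∧ k ≤ i.val) by omega) with h | h
          · exact key i i' h.1 h.2
          · exact (key i' i h.1 h.2).symm
        have hexp : (if i.val = i'.val then 1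
            else if i'.val + 1 = i.val ∨ i.val + 1 = i'.val then 3 else 2) = 2 := by
          split_ifs <;> omega
        rw [hexp, pow_two]
        calc t i * t i' * (t i * t i') = t i * (t i' * t i) * t i' := by simp only [mul_assoc]
          _ = t i * (t i * t i') * t i' := by rw [hcomm]
          _ = (t i * t i) * (t i' * t i') := by simp only [mul_assoc]
          _ = 1 := by rw [t_sq, t_sq, one_mul]
  obtain ⟨cs, hcs⟩ := Cfsg.Agent.S2530.result (k + 2)
  let Φ : Perm (Fin (k + 2 + 1)) →* G := cs.lift ⟨t, hlift⟩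
  have hΦ : ∀ i : Fin (k + 2), Φ (swap i.castSucc i.succ) = t i := by
    intro i
    rw [← hcs i]
    exact cs.lift_apply_simple hlift i
  refine ⟨Φ, ?_, ?_⟩
  · -- injectivity
    rw [← MonoidHom.ker_eq_bot_iff]
    by_contra hne
    have hnt : Nontrivial Φ.ker := (Subgroup.nontrivial_iff_ne_bot _).2 hne
    have hle := Equiv.Perm.alternatingGroup_le_of_normal (α := Fin (k + 2 + 1))
      (by rw [Nat.card_eq_fintype_card, Fintype.card_fin]; omega) hnt
    obtain ⟨i0, hi0⟩ : ∃ i0 : Fin (k + 2), i0 = ⟨0, by omega⟩ := ⟨_, rfl⟩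
    obtain ⟨i1, hi1⟩ : ∃ i1 : Fin (k + 2), i1 = ⟨1, by omega⟩ := ⟨_, rfl⟩
    have h3 : swap i0.castSucc i0.succ * swap i1.castSucc i1.succ
        ∈ alternatingGroup (Fin (k + 2 + 1)) := by
      rw [Equiv.Perm.mem_alternatingGroup, Equiv.Perm.sign_mul, Equiv.Perm.sign_swap,
        Equiv.Perm.sign_swap]
      · norm_num
      · exact (Fin.castSucc_lt_succ).ne
      · exact (Fin.castSucc_lt_succ).ne
    have h4 := hle h3
    rw [MonoidHom.mem_ker, map_mul, hΦ, hΦ, hi0, hi1, t_iota 0 (by omega), t_iota 1 (by omega),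
      ← map_mul] at h4
    have h5 := hι (h4.trans (map_one ι).symm)
    have h6 := congrArg (fun f : Perm (Fin (k + 1)) => (f ⟨2, by omega⟩ : Fin (k + 1)).val) h5
    simp [sw] at h6
  · -- the range
    have hrange : Φ.range = Subgroup.closure (Set.range t) := by
      rw [MonoidHom.range_eq_map, ← cs.subgroup_closure_range_simple, MonoidHom.map_closure]
      congr 1
      ext g
      constructor
      · rintro ⟨_, ⟨i, rfl⟩, rfl⟩
        exact ⟨i, (cs.lift_apply_simple hlift i).symm⟩
      · rintro ⟨i, rfl⟩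
        exact ⟨cs.simple i, ⟨i, rfl⟩, cs.lift_apply_simple hlift i⟩
    rw [hrange]
    apply le_antisymm
    · rw [Subgroup.closure_le]
      rintro _ ⟨i, rfl⟩
      by_cases h : i.val < k
      · rw [t_low i h]
        exact Subgroup.mem_sup_left ⟨_, rfl⟩
      · rw [t_high i (by omega)]
        exact Subgroup.mem_sup_right ⟨_, rfl⟩
    · rw [sup_le_iff]
      constructor
      · rw [MonoidHom.range_eq_map, ← closure_sw k, MonoidHom.map_closure, Subgroup.closure_le]
        rintro _ ⟨_, ⟨j, rfl⟩, rfl⟩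
        apply Subgroup.subset_closure
        exact ⟨⟨j.val, by have := j.isLt; omega⟩, t_iota j.val j.isLt⟩
      · rw [MonoidHom.range_eq_map, ← closure_sw k, MonoidHom.map_closure, Subgroup.closure_le]
        rintro _ ⟨_, ⟨j, rfl⟩, rfl⟩
        apply Subgroup.subset_closure
        exact ⟨⟨j.val + 2, by have := j.isLt; omega⟩, t_kappa j.val j.isLt⟩

end Cfsg.Agent.Lib.Helper89.SymTwo
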